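import Cfsg.Agent.Lib.G23.Pres
/-! Permutation models of the members of the 2-local amalgam of `G₂(3)` -/
set_option autoImplicit false
set_option maxRecDepth 100000
namespace H63.G23
open H54 H27.W

/-- the atoms `g = w s w⁻¹` -/
def cjA (I : List (List ℕ × List ℕ)) : List (List ℕ × List ℕ) :=
  I.map fun a => (14 :: a.1, a.1 ++ a.2)

noncomputable def c8 : H54.Cfg := ⟨8, 8, 3, 7, 0xfac688,
  0x249249,
  0x6db6db,
  0x924924,
  (.cons 64 585 12
    (.cons 65 36873 6
    (.cons 66 266305 3
    (.cons 88 36873 6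
    (.cons 89 585 12
    .nil)))))⟩
theorem c8_check : c8.check = true := by decide +kernel

noncomputable def c14 : H54.Cfg := ⟨14, 16, 4, 15, 0xfedcba9876543210,
  0x1111111111111111,
  0x7777777777777777,
  0x8888888888888888,
  (.cons 64 0x11111111 32
    (.cons 65 0x111100001111 16
    (.cons 66 0x11001100110011 8
    (.cons 67 0x101010101010101 4
    (.cons 128 0x11001100110011 8
    (.cons 129 0x111100001111 16
    (.cons 130 0x11111111 32
    .nil)))))))⟩
theorem c14_check : c14.check = true := by decide +kernel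

noncomputable def c24 : H54.Cfg := ⟨24, 24, 5, 31, 0xbdab49ca307b9ac5a928398a418820,
  0x84210842108421084210842108421,
  0x7bdef7bdef7bdef7bdef7bdef7bdef,
  0x842108421084210842108421084210,
  (.cons 64 0x84210842108421 60
    (.cons 65 0x2108421000000002108421 30
    (.cons 66 0x10840000421000010840000421 15
    (.cons 67 0x200040008001000200040008001 5
    (.cons 68 0x4000800100020004000800100020 5
    (.cons 184 0x200040008001000200040008001 5
    (.cons 185 0x10840000421000010840000421 15
    (.cons 186 0x2108421000000002108421 30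
    (.cons 187 0x84210842108421 60
    .nil)))))))))⟩
theorem c24_check : c24.check = true := by decide +kernel

noncomputable def p0n0 : ℕ := 0x1041040000000000000000
noncomputable def p0n1 : ℕ := 0x1041040000000000000000
noncomputable def p0n2 : ℕ := 0x90090000000000000000000000
noncomputable def p0n3 : ℕ := 0x90090000000000000000000000
noncomputable def p0n4 : ℕ := 0x4920000000000000000000000
noncomputable def p0n5 : ℕ := 0x4920000000000000000000000
noncomputable def p0n6 : ℕ := 0x94800000000000000000000000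
noncomputable def p0n7 : ℕ := 0x90000002400000000000000000
noncomputable def p0n8 : ℕ := 0x94800002400000000000000000
noncomputable def p0n9 : ℕ := 0x94800002400000000000000000
noncomputable def p0n10 : ℕ := 0x90091000040000000000000000
noncomputable def p0n11 : ℕ := 0x90090041000000000000000000
noncomputable def p0n12 : ℕ := 0x90901003400000000000000000
noncomputable def p0n13 : ℕ := 0x94100143500000000000000000
noncomputable def p0N : Tr := (.node 6 (.node 2 (.node 0 (.leaf p0n0) (.node 1 (.leaf p0n1) (.leaf p0n2))) (.node 4 (.node 3 (.leaf p0n3) (.leaf p0n4)) (.node 5 (.leaf p0n5) (.leaf p0n6)))) (.node 9 (.node 7 (.leaf p0n7) (.node 8 (.leaf p0n8) (.leaf p0n9))) (.node 11 (.node 10 (.leaf p0n10) (.leaf p0n11)) (.node 12 (.leaf p0n12) (.leaf p0n13)))))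
theorem p0_ex : ∃ p : ℕ → Equiv.Perm (Fin 8), WM c8 (finPt 8) p p0N.get 7 :=
  exists_wm_perm (n := 8) c8_check rfl (by decide +kernel)
noncomputable def p0 : ℕ → Equiv.Perm (Fin 8) := p0_ex.choose
theorem p0_wm : WM c8 (finPt 8) p0 p0N.get 7 := p0_ex.choose_spec
theorem p0_rels : Rels (RM [] []) p0 := p0_wm.rels (by decide +kernel)
noncomputable def ch0_4 : H54.Chain := .nil
noncomputable def ch0_t3 : H54.Tr :=
 (.node 1 (.node 0 (.leaf 0x90001040000000100000003)
 (.leaf 0x90000000001000201000000))
 (.node 2 (.leaf 0x1040002000101000003)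
 (.leaf 0x3000000000003)))
noncomputable def ch0_3 : H54.Chain := .cons 3 15 ch0_t3
  [0xfac053, 0xfac4c1]
  [] ch0_4
noncomputable def ch0_t2 : H54.Tr :=
 (.node 3 (.node 1 (.node 0 (.leaf 0x120001040000000301000001)
 (.leaf 0x94921042400001000200000003))
 (.node 2 (.leaf 0x94801002440002000301000004)
 (.leaf 0x94800042440003000101000005)))
 (.node 5 (.node 4 (.leaf 0x41000004000201000003)
 (.leaf 0x5000000000005))
 (.node 8 (.leaf 0x90000000008000000000000)
 (.leaf 0x94800042440009000000000000))))
noncomputable def ch0_2 : H54.Chain := .cons 5 63 ch0_t2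
  [0xfac21a, 0xf9a941]
  [[9, 1, 9, 0], [9, 4, 8, 0, 4, 1, 2]] ch0_3
noncomputable def ch0_t1 : H54.Tr :=
 (.node 3 (.node 1 (.node 0 (.leaf 0x14811042080000000200000005)
 (.leaf 0x990001040001000401000004))
 (.node 2 (.leaf 0x10980040040002000400000004)
 (.leaf 0x84111042400003000500000002)))
 (.node 5 (.node 4 (.leaf 0x94021002440004000300000000)
 (.leaf 0x80131100140005000100000006))
 (.node 6 (.leaf 0x6000000000006)
 (.node 8 (.leaf 0x80131100140008000000000000)
 (.leaf 0x120040040009000000000000)))))
noncomputable def ch0_1 : H54.Chain := .cons 6 127 ch0_t1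
  [0xf422f4, 0xf816a5]
  [[2, 8, 9, 4, 9, 8, 0, 8, 5], [0, 4, 5, 8, 5, 1]] ch0_2
noncomputable def ch0_t0 : H54.Tr :=
 (.node 4 (.node 1 (.node 0 (.leaf 0x4190140140000000200000005)
 (.leaf 0x949b0000000001000201000003))
 (.node 2 (.leaf 0x991002440002000300000001)
 (.node 3 (.leaf 0x1b0002400003000101000007)
 (.leaf 0x80080143500004000301000000))))
 (.node 6 (.node 5 (.leaf 0x90901002440005000100000007)
 (.leaf 0x8b1101100006000401000004))
 (.node 7 (.leaf 0x7000000000007)
 (.node 8 (.leaf 0x90901002440008000000000000)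
 (.leaf 0x1b0002400009000000000000)))))
noncomputable def ch0_0 : H54.Chain := .cons 7 255 ch0_t0
  [0xb83f11, 0x6be22c]
  [[9, 3, 7, 0, 9, 4, 2], [7, 8, 0, 8, 9, 0, 2]] ch0_1
noncomputable def ch0 : H54.Chain := ch0_0

theorem ch0_low0 : H54.checkLow c8 ch0_0 = true := by decide +kernel
theorem ch0_low : H54.checkLow c8 ch0 = true := ch0_low0
theorem ch0_size : ch0.size c8.n = 1344 := by decide +kernel

theorem ch0_card : 1344 ≤ Nat.card (gen p0 7) :=
  (p0_wm.mono (by decide)).card_ge [[10, 12, 0], [8, 2]] (by decide +kernel) ch0_low ch0_size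
theorem ch0_good : Good c8 (finPt 8) ch0 (gen p0 7) :=
  p0_wm.good [[10, 12, 0], [8, 2]] (by decide +kernel) ch0_low ch0_size (bnd_le bndM00 p0_rels)
noncomputable def ch0P_3 : H54.Chain := .nil
noncomputable def ch0P_t2 : H54.Tr :=
 (.node 1 (.node 0 (.leaf 0x90001040000000101000003)
 (.leaf 0x90000000001000201000002))
 (.node 2 (.leaf 0x1040002000100000003)
 (.leaf 0x3000000000003)))
noncomputable def ch0P_2 : H54.Chain := .cons 3 15 ch0P_t2
  [0xfac4c1, 0xfac053]
  [] ch0P_3
noncomputable def ch0P_t1 : H54.Tr :=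
 (.node 3 (.node 1 (.node 0 (.leaf 0x94921002440000000200000003)
 (.leaf 0x120041000001000201000003))
 (.node 2 (.leaf 0x94801002440002000301000000)
 (.leaf 0x1b0040040003000100000005)))
 (.node 5 (.node 4 (.leaf 0x90041000004000300000001)
 (.leaf 0x5000000000005))
 (.node 8 (.leaf 0x1b0040040008000000000000)
 (.leaf 0x90000000009000000000000))))
noncomputable def ch0P_1 : H54.Chain := .cons 5 63 ch0P_t1
  [0xf9a065, 0xfac21a]
  [[5, 5, 4, 8, 3, 2, 4, 4], [1, 3, 1, 1, 9, 9, 5, 9, 1]] ch0P_2
noncomputable def ch0P_t0 : H54.Tr :=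
 (.node 4 (.node 1 (.node 0 (.leaf 0x49b0001040000000301000005)
 (.leaf 0x949b0041000001000401000004))
 (.node 2 (.leaf 0x1b1002440002000201000003)
 (.node 3 (.leaf 0x94800000000003000100000007)
 (.leaf 0x901b0040040004000300000002))))
 (.node 6 (.node 5 (.leaf 0x90000002400005000200000003)
 (.leaf 0x91000040006000400000004))
 (.node 7 (.leaf 0x7000000000007)
 (.node 8 (.leaf 0x94800000000008000000000000)
 (.leaf 0x120001040009000000000000)))))
noncomputable def ch0P_0 : H54.Chain := .cons 7 255 ch0P_t0
  [0x6beb08, 0xf814ec]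
  [[9, 3, 7, 0, 1], [8, 9, 8, 8, 4, 2]] ch0P_1
noncomputable def ch0P : H54.Chain := ch0P_0

theorem ch0P_low0 : H54.checkLow c8 ch0P_0 = true := by decide +kernel
theorem ch0P_low : H54.checkLow c8 ch0P = true := ch0P_low0
theorem ch0P_size : ch0P.size c8.n = 192 := by decide +kernel

theorem ch0P_card : 192 ≤ Nat.card (gen p0 6) :=
  (p0_wm.mono (by decide)).card_ge [[0, 0, 6], [2, 6, 8, 10]] (by decide +kernel) ch0P_low ch0P_size
noncomputable def p1n0 : ℕ := 0x110000000000080000000800000000000000000000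
noncomputable def p1n1 : ℕ := 0x110000000000080000000800000000000000000000
noncomputable def p1n2 : ℕ := 0x110000000000000000080008000000000000000000
noncomputable def p1n3 : ℕ := 0x110000000000000000080008000000000000000000
noncomputable def p1n4 : ℕ := 0x10000000000080000080000080000000000000000
noncomputable def p1n5 : ℕ := 0x10000000000080000080000080000000000000000
noncomputable def p1n6 : ℕ := 0x22020000221108402208000000000000000000000000
noncomputable def p1n7 : ℕ := 0x320000001100080820000022000000000000000000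
noncomputable def p1n8 : ℕ := 0x1020210000001100482000080008080000000000000000
noncomputable def p1n9 : ℕ := 0x1020210000001100482000080008080000000000000000
noncomputable def p1n10 : ℕ := 0x1022020045260608082220084032180000000000000000
noncomputable def p1n11 : ℕ := 0x122200044040700482208000018380000000000000000
noncomputable def p1n12 : ℕ := 0x1100024444003300002808110000000000000000000000
noncomputable def p1n13 : ℕ := 0x122214411622200482840110122000000000000000000
noncomputable def p1N : Tr := (.node 6 (.node 2 (.node 0 (.leaf p1n0) (.node 1 (.leaf p1n1) (.leaf p1n2))) (.node 4 (.node 3 (.leaf p1n3) (.leaf p1n4)) (.node 5 (.leaf p1n5) (.leaf p1n6)))) (.node 9 (.node 7 (.leaf p1n7) (.node 8 (.leaf p1n8) (.leaf p1n9))) (.node 11 (.node 10 (.leaf p1n10) (.leaf p1n11)) (.node 12 (.leaf p1n12) (.leaf p1n13)))))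
theorem p1_ex : ∃ p : ℕ → Equiv.Perm (Fin 14), WM c14 (finPt 14) p p1N.get 7 :=
  exists_wm_perm (n := 14) c14_check rfl (by decide +kernel)
noncomputable def p1 : ℕ → Equiv.Perm (Fin 14) := p1_ex.choose
theorem p1_wm : WM c14 (finPt 14) p1 p1N.get 7 := p1_ex.choose_spec
theorem p1_rels : Rels (RM [] [2]) p1 := p1_wm.rels (by decide +kernel)
noncomputable def ch1_3 : H54.Chain := .nil
noncomputable def ch1_t2 : H54.Tr :=
 (.node 3 (.node 1 (.node 0 (.leaf 0x1122000044441508002200001119400000000200000004)
 (.leaf 0x10011224400000008000822100001000201000002))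
 (.node 2 (.leaf 0x1000044220000080000081000000200010000000a)
 (.leaf 0x110000402200000048000011080003000300000008)))
 (.node 5 (.node 4 (.leaf 0x110202004400110840020000110008000400010100000a)
 (.leaf 0x230044001100000028001108000005000301000008))
 (.node 8 (.leaf 0x10000000000000000000808080008000200000002)
 (.leaf 0xa00000000000a))))
noncomputable def ch1_2 : H54.Chain := .cons 10 1343 ch1_t2
  [0xfedcb2937610a845, 0xfedcb49576a80132]
  [] ch1_3
noncomputable def ch1_t1 : H54.Tr :=
 (.node 6 (.node 2 (.node 0 (.leaf 0x1100124444405108080200111110480000000300000009)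
 (.node 1 (.leaf 0x110032444400410000280011111018000100010000000b)
 (.leaf 0x1122324444444408080008111108400002000301000006)))
 (.node 4 (.node 3 (.leaf 0x2134444405108400200111108500003000200000001)
 (.leaf 0x100011667500000008004820000004000300000006))
 (.node 5 (.leaf 0x10000166770000004800482a080005000500000007)
 (.leaf 0x1122224004623400080220184129500006000200000008))))
 (.node 9 (.node 7 (.leaf 0x102220405124540840024810583b400007000401000002)
 (.node 8 (.leaf 0x10000022000000080808000000000800010100000b)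
 (.leaf 0x110000000000000000080008000009000201000008)))
 (.node 11 (.node 10 (.leaf 0x1000022000000080800000800000a000301000009)
 (.leaf 0xb00000000000b))
 (.node 14 (.leaf 0x110032444400410000280011111018000e000000000000)
 (.leaf 0x10000022000000080808000000000f000000000000)))))
noncomputable def ch1_1 : H54.Chain := .cons 11 4095 ch1_t1
  [0xfedc170654a8b932, 0xfedc8ba932546710]
  [[14, 14, 4, 14, 10], [14, 15, 14, 15, 14, 14, 9, 15, 0]] ch1_2
noncomputable def ch1_t0 : H54.Tr :=
 (.node 7 (.node 3 (.node 1 (.node 0 (.leaf 0x102001005566660048202808400808000000050100000c)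
 (.leaf 0x112002045400660008220801490000000100010100000d))
 (.node 2 (.leaf 0x1020300001041600482840001939380002000200000001)
 (.leaf 0x100045667700000840084000000003000600000000)))
 (.node 5 (.node 4 (.leaf 0x12230444024150840004811583840000400040100000b)
 (.leaf 0x10011441600000800001138180005000201000009))
 (.node 6 (.leaf 0x23005446460000080008402048000600040100000a)
 (.leaf 0x2230440646400080200014839400007000301000008))))
 (.node 11 (.node 9 (.node 8 (.leaf 0x1020230000221100002028000822080008000201000001)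
 (.leaf 0x102021000000110048200008000808000900010000000d))
 (.node 10 (.leaf 0x2032000000110048284000082a08000a000300000008)
 (.leaf 0x12202000022110840220808080800000b000301000005)))
 (.node 13 (.node 12 (.leaf 0x10000022000008080800080800000c00040000000b)
 (.leaf 0xd00000000000d))
 (.node 14 (.leaf 0x102021000000110048200008000808000e000000000000)
 (.leaf 0x112002045400660008220801490000000f000000000000)))))
noncomputable def ch1_0 : H54.Chain := .cons 13 16383 ch1_t0
  [0xfe9bc8da67540123, 0xfe104657cdb9328a]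
  [[8, 6, 6, 15, 9, 7, 7], [14, 15, 12, 11, 1, 13, 11]] ch1_1
noncomputable def ch1 : H54.Chain := ch1_0

theorem ch1_low0 : H54.checkLow c14 ch1_0 = true := by decide +kernel
theorem ch1_low : H54.checkLow c14 ch1 = true := ch1_low0
theorem ch1_size : ch1.size c14.n = 1344 := by decide +kernel

theorem ch1_card : 1344 ≤ Nat.card (gen p1 7) :=
  (p1_wm.mono (by decide)).card_ge [[8], [8, 10, 12]] (by decide +kernel) ch1_low ch1_size
theorem ch1_good : Good c14 (finPt 14) ch1 (gen p1 7) :=
  p1_wm.good [[8], [8, 10, 12]] (by decide +kernel) ch1_low ch1_size (bnd_le bndM01 p1_rels)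
noncomputable def ch1P_3 : H54.Chain := .nil
noncomputable def ch1P_t2 : H54.Tr :=
 (.node 5 (.node 4 (.leaf 0x102000004422110008202000112a000004000300000009)
 (.leaf 0x2020004422110048200000112208000500010000000b))
 (.node 9 (.leaf 0x100000000000000000080800080009000200000005)
 (.leaf 0xb00000000000b)))
noncomputable def ch1P_2 : H54.Chain := .cons 11 2608 ch1P_t2
  [0xfedc5a48019b3276]
  [] ch1P_3
noncomputable def ch1P_t1 : H54.Tr :=
 (.node 9 (.node 4 (.leaf 0x10004422000008000000080008000400010000000d)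
 (.node 5 (.leaf 0x44220000080000080000000005000301000009)
 (.leaf 0x2020000000110048200000000800000900020000000b)))
 (.node 11 (.leaf 0x102000000000110008202000192a08000b00010100000d)
 (.node 12 (.leaf 0x10000000000008000000000808000c000400000005)
 (.leaf 0xd00000000000d))))
noncomputable def ch1P_1 : H54.Chain := .cons 13 14896 ch1P_t1
  [0xfe459ab832cd7601, 0xfeb94a5832cd0167]
  [[11, 11, 9, 12]] ch1P_2
noncomputable def ch1P_t0 : H54.Tr :=
 (.node 10 (.node 5 (.node 4 (.leaf 0x110232000022110840024800112a000004000201000005)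
 (.leaf 0x23004400110000002800110800000500010000000a))
 (.node 8 (.leaf 0x10000000000000000000808080008000200000005)
 (.node 9 (.leaf 0x2032000000110048284000082a08000900040100000d)
 (.leaf 0xa00000000000a))))
 (.node 12 (.node 11 (.leaf 0x32000000110008082000002200000b00020100000c)
 (.leaf 0x110232000022110840024800080000000c00010100000a))
 (.node 13 (.leaf 0x100232000022110840024808000800000d000301000008)
 (.node 14 (.leaf 0x23004400110000002800110800000e000000000000)
 (.leaf 0x110232000022110840024800080000000f000000000000)))))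
noncomputable def ch1P_0 : H54.Chain := .cons 10 16176 ch1P_t0
  [0xfedcb594768a1023, 0xfe9b8cad10457632]
  [[15, 14, 15, 13], [9, 14, 15, 13, 15, 14, 4, 4]] ch1P_1
noncomputable def ch1P : H54.Chain := ch1P_0

theorem ch1P_low0 : H54.checkLow c14 ch1P_0 = true := by decide +kernel
theorem ch1P_low : H54.checkLow c14 ch1P = true := ch1P_low0
theorem ch1P_size : ch1P.size c14.n = 192 := by decide +kernel

theorem ch1P_card : 192 ≤ Nat.card (gen p1 6) :=
  (p1_wm.mono (by decide)).card_ge [[2, 8, 10, 0], [0, 6]] (by decide +kernel) ch1P_low ch1P_size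
noncomputable def p2n0 : ℕ := 0x0
noncomputable def p2n1 : ℕ := 0x0
noncomputable def p2n2 : ℕ := 0x0
noncomputable def p2n3 : ℕ := 0x0
noncomputable def p2n4 : ℕ := 0x0
noncomputable def p2n5 : ℕ := 0x0
noncomputable def p2n6 : ℕ := 0x94800000000000000000000000
noncomputable def p2n7 : ℕ := 0x90000002400000000000000000
noncomputable def p2n8 : ℕ := 0x94800002400000000000000000
noncomputable def p2n9 : ℕ := 0x94800002400000000000000000
noncomputable def p2n10 : ℕ := 0x41000000000000000000
noncomputable def p2n11 : ℕ := 0x41000000000000000000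
noncomputable def p2n12 : ℕ := 0x90901003400000000000000000
noncomputable def p2n13 : ℕ := 0x94100143500000000000000000
noncomputable def p2N : Tr := (.node 6 (.node 2 (.node 0 (.leaf p2n0) (.node 1 (.leaf p2n1) (.leaf p2n2))) (.node 4 (.node 3 (.leaf p2n3) (.leaf p2n4)) (.node 5 (.leaf p2n5) (.leaf p2n6)))) (.node 9 (.node 7 (.leaf p2n7) (.node 8 (.leaf p2n8) (.leaf p2n9))) (.node 11 (.node 10 (.leaf p2n10) (.leaf p2n11)) (.node 12 (.leaf p2n12) (.leaf p2n13)))))
theorem p2_ex : ∃ p : ℕ → Equiv.Perm (Fin 8), WM c8 (finPt 8) p p2N.get 7 :=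
  exists_wm_perm (n := 8) c8_check rfl (by decide +kernel)
noncomputable def p2 : ℕ → Equiv.Perm (Fin 8) := p2_ex.choose
theorem p2_wm : WM c8 (finPt 8) p2 p2N.get 7 := p2_ex.choose_spec
theorem p2_rels : Rels ([0] :: (RM [0] [] ++ RM [0] [2])) p2 := p2_wm.rels (by decide +kernel)
noncomputable def ch2_3 : H54.Chain := .nil
noncomputable def ch2_t2 : H54.Tr :=
 (.node 3 (.node 1 (.leaf 0x84880143500001000201000003)
 (.leaf 0x4101042080003000100000006))
 (.node 4 (.leaf 0x10080000000004000101000006)
 (.leaf 0x6000000000006)))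
noncomputable def ch2_2 : H54.Chain := .cons 6 90 ch2_t2
  [0xee9ca0, 0xf2e298]
  [] ch2_3
noncomputable def ch2_t1 : H54.Tr :=
 (.node 4 (.node 2 (.node 1 (.leaf 0x14881001000001000101000007)
 (.leaf 0x94800141100002000100000007))
 (.node 3 (.leaf 0x10080002400003000200000001)
 (.leaf 0x80080143500004000201000002)))
 (.node 7 (.node 6 (.leaf 0x1001000006000300000004)
 (.leaf 0x7000000000007))
 (.node 8 (.leaf 0x94800141100008000000000000)
 (.leaf 0x14881001000009000000000000))))
noncomputable def ch2_1 : H54.Chain := .cons 7 222 ch2_t1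
  [0x46e9d8, 0x2efd10]
  [[2, 6, 9, 3, 2], [6, 2, 9, 7, 6, 8, 4, 3, 4]] ch2_2
noncomputable def ch2_t0 : H54.Tr :=
 (.node 4 (.node 2 (.node 1 (.leaf 0x4101001000001000101000005)
 (.leaf 0x10981001000002000401000007))
 (.node 3 (.leaf 0x94800002400003000100000005)
 (.leaf 0x10081040000004000500000002)))
 (.node 6 (.node 5 (.leaf 0x5000000000005)
 (.leaf 0x10981003400006000201000003))
 (.node 7 (.leaf 0x94800000000007000301000006)
 (.node 8 (.leaf 0x94800002400008000000000000)
 (.leaf 0x4101001000009000000000000)))))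
noncomputable def ch2_0 : H54.Chain := .cons 5 254 ch2_t0
  [0xf9ab08, 0x5ccce8]
  [[1, 4, 6, 7, 8, 8, 2], [3, 9, 4, 9, 7]] ch2_1
noncomputable def ch2 : H54.Chain := ch2_0

theorem ch2_low0 : H54.checkLow c8 ch2_0 = true := by decide +kernel
theorem ch2_low : H54.checkLow c8 ch2 = true := ch2_low0
theorem ch2_size : ch2.size c8.n = 168 := by decide +kernel

theorem ch2_card : 168 ≤ Nat.card (gen p2 7) :=
  (p2_wm.mono (by decide)).card_ge [[8], [8, 10, 12]] (by decide +kernel) ch2_low ch2_size
noncomputable def pHn0 : ℕ := 0x20108000084200022008040180304004820004000804000a201240a800000000000000000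
noncomputable def pHn1 : ℕ := 0x20108000084200022008040180304004820004000804000a201240a800000000000000000
noncomputable def pHn2 : ℕ := 0x1040400802021020050c6008104000a2012010000442482003582080000000000000000
noncomputable def pHn3 : ℕ := 0x1040400802021020050c6008104000a2012010000442482003582080000000000000000
noncomputable def pHn4 : ℕ := 0x2010004008c200008020806194004100a0002000400400100040088200000000000000000
noncomputable def pHn5 : ℕ := 0x2010004008c200008020806194004100a0002000400400100040088200000000000000000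
noncomputable def pHn6 : ℕ := 0x200880000c202002505884290a0010080040002080c505a0060584080000000000000000
noncomputable def pHn7 : ℕ := 0x22100802084000102528880894a04004a2040400080c02122450010400000000000000000
noncomputable def pHn8 : ℕ := 0x2100800188242008108806b0c60400422010018400850582012094080000000000000000
noncomputable def pHn9 : ℕ := 0x2100800188242008108806b0c60400422010018400850582012094080000000000000000
noncomputable def pHn10 : ℕ := 0x1088429043401081090c629ca040002201240a4804520a0032000e80000000000000000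
noncomputable def pHn11 : ℕ := 0x200c84008824000a4280c4b8c9040048000250200005048845250a080000000000000000
noncomputable def pHn12 : ℕ := 0x10080008874000852c88629c8041000001041a080842588410000080000000000000000
noncomputable def pHn13 : ℕ := 0x10800010000002010d8c6a18c0410400010110c804520a0032108800000000000000000
noncomputable def pHN : Tr := (.node 6 (.node 2 (.node 0 (.leaf pHn0) (.node 1 (.leaf pHn1) (.leaf pHn2))) (.node 4 (.node 3 (.leaf pHn3) (.leaf pHn4)) (.node 5 (.leaf pHn5) (.leaf pHn6)))) (.node 9 (.node 7 (.leaf pHn7) (.node 8 (.leaf pHn8) (.leaf pHn9))) (.node 11 (.node 10 (.leaf pHn10) (.leaf pHn11)) (.node 12 (.leaf pHn12) (.leaf pHn13)))))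
theorem pH_ex : ∃ p : ℕ → Equiv.Perm (Fin 24), WM c24 (finPt 24) p pHN.get 7 :=
  exists_wm_perm (n := 24) c24_check rfl (by decide +kernel)
noncomputable def pH : ℕ → Equiv.Perm (Fin 24) := pH_ex.choose
theorem pH_wm : WM c24 (finPt 24) pH pHN.get 7 := pH_ex.choose_spec
theorem pH_rels : Rels (RH) pH := pH_wm.rels (by decide +kernel)
noncomputable def chH_3 : H54.Chain := .nil
noncomputable def chH_t2 : H54.Tr :=
 (.node 7 (.node 0 (.leaf 0x200404010c14210842d8c6110c041008005041a080c4248a46210608000000030000000b)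
 (.leaf 0x400090c60002800088499090000080010412c0040048201200ec80007000100000014))
 (.node 11 (.leaf 0x10000098c002108021804188000100a0010418c8004218004048848000b000200000007)
 (.leaf 0x14000000000014)))
noncomputable def chH_2 : H54.Chain := .cons 20 0x100881 chH_t2
  [0xbdaa7989e32b548025d05849161a54]
  [] chH_3
noncomputable def chH_t1 : H54.Tr :=
 (.node 16 (.node 8 (.node 3 (.leaf 0x2010084218c00012a10888231800400082052518c0041018a461016280003000100000015)
 (.leaf 0x484298c00002a52d880290104100a0052118c0040218204110e600008000300000013))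
 (.node 12 (.leaf 0x200008021046020024258c0290004000820424028000524a204300628000c000401000008)
 (.leaf 0xc04290860200210d846b88600100a2010400880040582452412400010000201000003)))
 (.node 21 (.node 19 (.leaf 0x800208c00000010c04238c70000080000500c00410080050416000013000200000003)
 (.leaf 0x15000000000015))
 (.node 24 (.leaf 0x2010084218c00012a10888231800400082052518c0041018a461016280018000000000000)
 (.leaf 0x421000000081240463187001008000201248001018040208e200019000000000000))))
noncomputable def chH_1 : H54.Chain := .cons 21 0x291108 chH_t1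
  [0xbd860404902a54c750f55c642999ed, 0xbd86d43c5521d335aa8c018b28062e]
  [[12, 24, 8, 24, 25, 3, 16, 25, 3]] chH_2
noncomputable def chH_t0 : H54.Tr :=
 (.node 12 (.node 5 (.node 2 (.node 0 (.leaf 0x880210864200a420840a84300104a001201088085058845240608000000020200000b)
 (.node 1 (.leaf 0x10880290044200a0258c439490000002010100000c504a843201e000001000200000003)
 (.leaf 0x20008040900042108525886b8c80400002010400880010082013400000002000301000004)))
 (.node 3 (.leaf 0x210080000430202000d84488c400000220504120004500a003058a080003000102000017)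
 (.node 4 (.leaf 0x2200080018000012a109842100b0400002040402c00c0252802140ea80004000202000007)
 (.leaf 0x21080420883000021040c0a908040040004200248004218a471196400005000300000015))))
 (.node 8 (.node 6 (.leaf 0x880298434000a00804418cb040002201250a08081208a04309e080006000302000001)
 (.node 7 (.leaf 0x20100840100240120501844b14a0400480050410080c10002450116e80007000100000017)
 (.leaf 0x2210000010050210802d04498860410002040502080c005a241200e20000800030000000e)))
 (.node 10 (.node 9 (.leaf 0x201000400046020024290401849041040200000200005200a450092a80009000301000010)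
 (.leaf 0x20000840088440120020080104f041000001010288040018247000240000a000401000012))
 (.node 11 (.leaf 0x200880000c202002505884290a0010080040002080c505a006058408000b000101000017)
 (.leaf 0x210884298c7001021280c40941000002205010a88080008a00018200000c000302000010)))))
 (.node 19 (.node 15 (.node 13 (.leaf 0x2000800200860012800908020cb04004a200010a40041048847011288000d000201000003)
 (.node 14 (.leaf 0x22100802084000102528880894a04004a2040400080c0212245001040000e00020100000b)
 (.leaf 0x21008008046001025080400000040000005040a40040000801210408000f00020000000b)))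
 (.node 17 (.node 16 (.leaf 0x210484088474000200d844994400104a201040a000000580451412e00010000201000007)
 (.leaf 0x484218c640108000080094e04100a0012002880012002061582200011000300000010))
 (.node 18 (.leaf 0x2100002084300108029804088c0410082012402080802488033580400012000301000015)
 (.leaf 0x2000000208424000250c002a9ce040000204040a800c4058841150c080013000401000005))))
 (.node 22 (.node 20 (.leaf 0x2210800200850000a1250c6910d0410002010112c804124a0031102400014000402000005)
 (.node 21 (.leaf 0x210c8409882401204280862184040048001041ac00c521a0463412280015000200000007)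
 (.leaf 0x20108000084200022008040180304004820004000804000a201240a800016000400000005)))
 (.node 24 (.node 23 (.leaf 0x17000000000017)
 (.leaf 0x20100840100240120501844b14a0400480050410080c10002450116e80018000000000000))
 (.node 25 (.leaf 0x200880000c202002505884290a0010080040002080c505a0060584080019000000000000)
 (.leaf 0x210080000430202000d84488c400000220504120004500a003058a08001a000000000000))))))
noncomputable def chH_0 : H54.Chain := .cons 23 0xffffff chH_t0
  [0x388ab518712212e7de80ab6d20cd90, 0x59a45a2ac90dc04754ef846626b103, 0x1a2a59a9ec8b5d00485620687ba4cb]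
  [[24, 26, 10, 25, 3, 12, 1], [26, 24, 26, 5, 16, 23, 0]] chH_1
noncomputable def chH : H54.Chain := chH_0

theorem chH_low0 : H54.checkLow c24 chH_0 = true := by decide +kernel
theorem chH_low : H54.checkLow c24 chH = true := chH_low0
theorem chH_size : chH.size c24.n = 576 := by decide +kernel

theorem chH_card : 576 ≤ Nat.card (gen pH 7) :=
  (pH_wm.mono (by decide)).card_ge [[8, 2, 12, 12], [6], [8, 12, 6]] (by decide +kernel) chH_low chH_size
theorem chH_good : Good c24 (finPt 24) chH (gen pH 7) :=
  pH_wm.good [[8, 2, 12, 12], [6], [8, 12, 6]] (by decide +kernel) chH_low chH_size (bnd_le bndH pH_rels)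
def AtM : List (List ℕ × List ℕ) := [([14, 2, 15, 3], [0]), ([14, 4, 15, 5], [0]), ([12, 14, 2, 15, 3, 13], [0]), ([12, 12, 14, 2, 15, 3, 13, 13], [0]), ([13, 13, 14, 2, 15, 3, 12, 12], [0]), ([12, 12, 12, 14, 2, 15, 3, 13, 13, 13], [0]), ([13, 13, 13, 14, 2, 15, 3, 12, 12, 12], [0]), ([12, 14, 4, 15, 5, 13], [0]), ([13, 14, 4, 15, 5, 12], [0]), ([12, 12, 14, 4, 15, 5, 13, 13], [0]), ([13, 13, 13, 14, 4, 15, 5, 12, 12, 12], [0]), ([13, 14, 0, 15, 1, 12], [0]), ([13, 13, 14, 0, 15, 1, 12, 12], [0]), ([12, 12, 12, 14, 0, 15, 1, 13, 13, 13], [0]), ([14], []), ([14], [0]), ([12, 14, 13], [0]), ([13, 14, 12], [0]), ([12, 12, 14, 13, 13], [0]), ([13, 13, 14, 12, 12], [0]), ([12, 12, 12, 14, 13, 13, 13], [0]), ([13, 13, 13, 14, 12, 12, 12], [0])]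
def AtH : List (List ℕ × List ℕ) := [([14, 10, 15, 11, 10, 10, 14, 11, 15, 11], [0]), ([14, 10, 15, 11], [0]), ([14, 2, 15, 3, 2, 2, 14, 3, 15, 3], [0]), ([14, 2, 15, 3, 6, 10, 7, 2, 14, 3, 15, 6, 11, 7], [0]), ([14, 2, 15, 3], [0]), ([14, 4, 15, 5], [0]), ([14], []), ([14], [0]), ([14, 6, 10, 7, 15, 6, 11, 7], [0])]
def I0 : List (List ℕ × List ℕ) := [([], [10]), ([2], [10]), ([8], [10]), ([6], [10]), ([7], [10]), ([8, 2], [10]), ([6, 2], [10]), ([8, 7], [10]), ([8, 6], [10]), ([7, 2], [10]), ([8, 7, 2], [10]), ([8, 6, 2], [10])]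
def I1 : List (List ℕ × List ℕ) := [([], [10]), ([], [2, 4, 10]), ([7], [2, 4, 10]), ([7], [10]), ([2], [10]), ([6], [10]), ([2], [2, 4, 10]), ([6], [2, 4, 10]), ([7, 2], [2, 4, 10]), ([7, 2], [10]), ([6, 2], [10]), ([6, 2], [2, 4, 10])]
def IT : List (List ℕ × List ℕ) := [([], [0]), ([], [2]), ([], [8, 0]), ([], [8]), ([10], [2]), ([7], [2]), ([6], [2]), ([7], [8, 0]), ([7], [8]), ([6], [8, 0]), ([6], [8]), ([2], [8]), ([2], [8, 0]), ([12], [2]), ([13], [2]), ([12], [8]), ([12], [8, 0]), ([13], [8, 0]), ([13], [8]), ([12, 6], [2]), ([13, 7], [2]), ([7, 10], [2]), ([10, 6], [2]), ([7, 2], [8, 0]), ([7, 2], [8]), ([6, 2], [8]), ([6, 2], [8, 0]), ([12, 10], [2]), ([12, 7], [2]), ([13, 6], [2]), ([13, 10], [2]), ([10, 7], [8, 0]), ([10, 7], [8]), ([10, 6], [8, 0]), ([10, 6], [8]), ([2, 12], [8, 0]), ([2, 12], [8]), ([12, 2], [8]), ([4, 12], [8]), ([10, 12], [8, 0]), ([10, 12], [8]), ([12, 7], [8]), ([12, 7], [8, 0]), ([12, 6], [8]), ([12, 6], [8, 0]), ([13, 2], [8]), ([2, 13], [8]), ([13, 6], [8]), ([13, 6], [8,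 0]), ([10, 13], [8, 0]), ([10, 13], [8]), ([4, 13], [8]), ([4, 13], [8, 0]), ([13, 7], [8, 0]), ([13, 7], [8]), ([12, 10, 6], [2]), ([4, 13, 7], [2]), ([2, 12, 7], [2]), ([13, 10, 6], [2]), ([6, 10, 7], [8]), ([7, 10, 6], [8]), ([10, 6, 2], [8]), ([10, 6, 2], [8, 0]), ([12, 4, 13], [8]), ([13, 2, 12], [8]), ([10, 7, 2], [8, 0]), ([10, 7, 2], [8]), ([12, 7, 2], [8]), ([2, 12, 7], [8]), ([12, 6, 2], [8]), ([6, 4, 12], [8]), ([2, 12, 6], [8]), ([12, 10, 6], [8]), ([7, 2, 12], [8, 0]), ([7, 2, 12], [8]), ([4, 12, 6], [8]), ([4, 12, 6], [8, 0]), ([12, 10, 7], [8]), ([7, 10, 12], [8]), ([6, 10, 13], [8]), ([13, 10, 6], [8]), ([7, 2, 13], [8]), ([13, 7, 2], [8]), ([2, 13, 7], [8]), ([2, 13, 7], [8, 0]), ([4, 13, 7], [8]), ([13, 10, 7], [8]), ([6, 4, 13], [8]), ([6, 4, 13], [8, 0]), ([13, 6, 2], [8]), ([4, 13, 6], [8])]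
def ND : List (List ℕ × List ℕ) := [([14, 6, 15, 6], [6, 14, 6, 15]), ([14, 6, 15, 12], [12, 14, 6, 15]),
  ([14, 12, 15, 6], [6, 14, 12, 15]), ([14, 12, 15, 12], [12, 14, 12, 15])]
theorem emb0 : Cl (gen p0 7) p0 7 [] AtM := p0_wm.cl ch0_good (by decide +kernel)
theorem emb1 : Cl (gen p1 7) p1 7 [] AtM := p1_wm.cl ch1_good (by decide +kernel)
theorem embH : Cl (gen pH 7) pH 7 [] AtH := pH_wm.cl chH_good (by decide +kernel)
theorem sq0 : Cl (gen p0 7) p0 7 [([14, 14], [0])] (cjA I0) := p0_wm.cl ch0_good (by decide +kernel)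
theorem sq1 : Cl (gen p1 7) p1 7 [([14, 14], [0])] (cjA I1) := p1_wm.cl ch1_good (by decide +kernel)
theorem clT : Cl (gen pH 7) pH 7 [([14, 14], [])] (cjA (([], []) :: IT)) :=
  pH_wm.cl chH_good (by decide +kernel)
theorem clD : Cl (gen pH 7) pH 7 [([14, 14], []), ([14, 6], [6, 14]), ([14, 12], [12, 14])]
    [([14], []), ([14], [0])] := pH_wm.cl chH_good (by decide +kernel)
theorem clN1 : Cl (gen pH 7) pH 7 ND [([14, 6], [6, 14]), ([8, 14, 6], [6, 8, 14])] :=
  pH_wm.cl chH_good (by decide +kernel)
theorem clN2 : Cl (gen pH 7) pH 7 (([14, 6], [6, 14]) :: ND) [([14, 12], [12, 14])] :=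
  pH_wm.cl chH_good (by decide +kernel)
theorem cl9 : Cl (gen pH 7) pH 7 [([14, 14, 14, 14, 14, 14, 14, 14, 14], [])] [([14, 14, 14], [])] :=
  pH_wm.cl chH_good (by decide +kernel)
theorem clI : Cl (gen pH 7) pH 7 [([8, 14, 8, 14], []), ([14, 14, 14], [])]
    (([14], []) :: (W0 :: WB).flatMap fun w => [([14], w), ([15], w)]) :=
  pH_wm.cl chH_good (by decide +kernel)
theorem eqns_model : True := by
  have := @cjA.eq_1
  have := @c8.eq_1
  have := @c14.eq_1
  have := @c24.eq_1
  have := @p0n0.eq_1
  have := @p0n1.eq_1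
  have := @p0n2.eq_1
  have := @p0n3.eq_1
  have := @p0n4.eq_1
  have := @p0n5.eq_1
  have := @p0n6.eq_1
  have := @p0n7.eq_1
  have := @p0n8.eq_1
  have := @p0n9.eq_1
  have := @p0n10.eq_1
  have := @p0n11.eq_1
  have := @p0n12.eq_1
  have := @p0n13.eq_1
  have := @p0N.eq_1
  have := @p0.eq_1
  have := @ch0_4.eq_1
  have := @ch0_t3.eq_1
  have := @ch0_3.eq_1
  have := @ch0_t2.eq_1
  have := @ch0_2.eq_1
  have := @ch0_t1.eq_1
  have := @ch0_1.eq_1
  have := @ch0_t0.eq_1
  have := @ch0_0.eq_1
  have := @ch0.eq_1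
  have := @ch0P_3.eq_1
  have := @ch0P_t2.eq_1
  have := @ch0P_2.eq_1
  have := @ch0P_t1.eq_1
  have := @ch0P_1.eq_1
  have := @ch0P_t0.eq_1
  have := @ch0P_0.eq_1
  have := @ch0P.eq_1
  have := @p1n0.eq_1
  have := @p1n1.eq_1
  have := @p1n2.eq_1
  have := @p1n3.eq_1
  have := @p1n4.eq_1
  have := @p1n5.eq_1
  have := @p1n6.eq_1
  have := @p1n7.eq_1
  have := @p1n8.eq_1
  have := @p1n9.eq_1
  have := @p1n10.eq_1
  have := @p1n11.eq_1
  have := @p1n12.eq_1
  have := @p1n13.eq_1
  have := @p1N.eq_1
  have := @p1.eq_1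
  have := @ch1_3.eq_1
  have := @ch1_t2.eq_1
  have := @ch1_2.eq_1
  have := @ch1_t1.eq_1
  have := @ch1_1.eq_1
  have := @ch1_t0.eq_1
  have := @ch1_0.eq_1
  have := @ch1.eq_1
  have := @ch1P_3.eq_1
  have := @ch1P_t2.eq_1
  have := @ch1P_2.eq_1
  have := @ch1P_t1.eq_1
  have := @ch1P_1.eq_1
  have := @ch1P_t0.eq_1
  have := @ch1P_0.eq_1
  have := @ch1P.eq_1
  have := @p2n0.eq_1
  have := @p2n1.eq_1
  have := @p2n2.eq_1
  have := @p2n3.eq_1
  have := @p2n4.eq_1
  have := @p2n5.eq_1
  have := @p2n6.eq_1
  have := @p2n7.eq_1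
  have := @p2n8.eq_1
  have := @p2n9.eq_1
  have := @p2n10.eq_1
  have := @p2n11.eq_1
  have := @p2n12.eq_1
  have := @p2n13.eq_1
  have := @p2N.eq_1
  have := @p2.eq_1
  have := @ch2_3.eq_1
  have := @ch2_t2.eq_1
  have := @ch2_2.eq_1
  have := @ch2_t1.eq_1
  have := @ch2_1.eq_1
  have := @ch2_t0.eq_1
  have := @ch2_0.eq_1
  have := @ch2.eq_1
  have := @pHn0.eq_1
  have := @pHn1.eq_1
  have := @pHn2.eq_1
  have := @pHn3.eq_1
  have := @pHn4.eq_1
  have := @pHn5.eq_1
  have := @pHn6.eq_1
  have := @pHn7.eq_1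
  have := @pHn8.eq_1
  have := @pHn9.eq_1
  have := @pHn10.eq_1
  have := @pHn11.eq_1
  have := @pHn12.eq_1
  have := @pHn13.eq_1
  have := @pHN.eq_1
  have := @pH.eq_1
  have := @chH_3.eq_1
  have := @chH_t2.eq_1
  have := @chH_2.eq_1
  have := @chH_t1.eq_1
  have := @chH_1.eq_1
  have := @chH_t0.eq_1
  have := @chH_0.eq_1
  have := @chH.eq_1
  have := @AtM.eq_1
  have := @AtH.eq_1
  have := @I0.eq_1
  have := @I1.eq_1
  have := @IT.eq_1
  have := @ND.eq_1
  trivial
end H63.G23
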