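import Cfsg.Agent.Lib.McL27.Word
import Cfsg.Agent.Lib.G23.TC
import Cfsg.Agent.Lib.G23.TCG
import Cfsg.Agent.Lib.G23.TCC
/-! A presentation of `G₂(3)` on generators `z a b c t q d s` of its 2-local amalgam -/
set_option autoImplicit false
set_option maxRecDepth 100000
namespace H63.G23
open H54
def R21 : List (List ℕ) := [[0, 0, 0], [2, 2, 2, 2, 2, 2, 2], [0, 2, 1, 3, 3]]
def RB : List (List ℕ) := [[0, 0], [2, 2], [4, 4], [0, 2, 0, 2], [0, 4, 0, 4], [2, 4, 2, 4], [6, 6, 6], [6, 0, 7, 0], [6, 2, 7, 4], [6, 4, 7, 2, 4], [8, 0, 9, 0], [8, 2, 9, 4], [8, 4, 9, 2], [8, 6, 9, 6], [12, 12, 12, 12, 12, 12, 12], [12, 0, 13, 2], [12, 2, 13, 4], [12, 4, 13, 0, 2], [6, 12, 7, 13, 13], [11, 2, 6, 13, 8, 12, 12]]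
/-- relators of `2³ L₃(2)` on `z a b c t q s` -/
def RM (e h : List ℕ) : List (List ℕ) := RB ++ [[8, 8] ++ e, [8, 12, 8, 12, 8, 12] ++ h]
def Rq : List (List ℕ) := [[10, 10, 0], [10, 0, 11, 0], [10, 2, 11, 0, 2], [10, 4, 11, 0, 4], [8, 10, 8, 10], [10, 7, 10, 7, 10, 7]]
def Rd : List (List ℕ) := [[12, 12, 12], [12, 6, 13, 7], [8, 12, 8, 12], [12, 2, 4, 10, 13, 11, 4, 2], [12, 10, 13, 6, 11, 7]]
def RP : List (List ℕ) := [[0, 0], [2, 2], [4, 4], [0, 2, 0, 2], [0, 4, 0, 4], [2, 4, 2, 4], [6, 6, 6], [6, 0, 7, 0], [6, 2, 7, 4], [6, 4, 7, 2, 4], [8, 8], [8, 0, 9, 0], [8, 2, 9, 4], [8, 4, 9, 2], [8, 6, 9, 6], [10, 10, 0], [10, 0, 11, 0], [10, 2, 11, 0, 2], [10, 4, 11, 0, 4], [8, 10, 8, 10], [10, 7, 10, 7, 10, 7]]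
def RH : List (List ℕ) := RP ++ Rd
def E7 : List (List ℕ) := [[0], [2], [4], [6], [8], [10], [14]]
/-- relators of the amalgam -/
noncomputable def RA : List (List ℕ) := (RM [] [2] ++ Rq).map (subW E7) ++ Rd
def RHO : List ℕ := [7, 14, 6, 12, 15, 6]
noncomputable def cmW (u v : List ℕ) : List ℕ := u ++ (v ++ invA u (invA v []))
noncomputable def RK (w : List ℕ) : List (List ℕ) :=
  RA ++ [cmW (RHO ++ (w ++ invA RHO [])) [12], cmW (RHO ++ (w ++ invA RHO [])) [6]]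
def W0 : List ℕ := [2, 4, 10, 13, 6, 11, 4, 2]
def WB : List (List ℕ) := [[12], [10, 12, 11], [13, 6], [12, 13, 6], [12, 7, 12], [12, 2, 4, 10, 13, 6, 11, 4, 2], [12, 2, 4, 10, 7, 12, 11, 4, 2], [10, 12, 11, 13, 6], [10, 12, 11, 7, 12], [10, 12, 11, 2, 4, 10, 13, 6, 11, 4, 2], [10, 12, 11, 2, 4, 10, 7, 12, 11, 4, 2]]
theorem bnd21 : Bnd R21 2 21 :=
  Bnd.tc (bnd_zero []) (n := 21) (fun g ω => T54.G23F.enum g ω) (by decide) [0, 1, 2, 3] rfl (icol_ge _ rfl)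
    []
    [([0, 1], []),
  ([1, 0], []),
  ([2, 3], []),
  ([3, 2], [])]
    (by decide +kernel)
theorem bndM00 : Bnd (RM [] []) 7 1344 :=
  Bnd.tc bnd21 (n := 64) (fun g ω => T54.G23M00.enum g ω) (by decide) [0, 2, 4, 6, 7, 8, 10, 11, 12, 13] rfl (icol_ge _ rfl)
    [[6],
  [12]]
    [([6, 7], []),
  ([7, 6], []),
  ([10, 11], []),
  ([11, 10], []),
  ([12, 13], []),
  ([13, 12], []),
  ([8, 0, 8, 0], [([], 21), ([8, 0], 41)]),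
  ([8, 2, 8, 4], [([], 23), ([8, 2], 41)]),
  ([8, 4, 8, 2], [([3, 9], 23), ([], 41)]),
  ([8, 6, 8, 6], [([], 27), ([8, 6], 41)])]
    (by decide +kernel)
theorem bndM01 : Bnd (RM [] [2]) 7 1344 :=
  Bnd.tc bnd21 (n := 64) (fun g ω => T54.G23M01.enum g ω) (by decide) [0, 2, 4, 6, 7, 8, 10, 11, 12, 13] rfl (icol_ge _ rfl)
    [[6],
  [12]]
    [([6, 7], []),
  ([7, 6], []),
  ([10, 11], []),
  ([11, 10], []),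
  ([12, 13], []),
  ([13, 12], []),
  ([8, 0, 8, 0], [([], 21), ([8, 0], 41)]),
  ([8, 2, 8, 4], [([], 23), ([8, 2], 41)]),
  ([8, 4, 8, 2], [([3, 9], 23), ([], 41)]),
  ([8, 6, 8, 6], [([], 27), ([8, 6], 41)])]
    (by decide +kernel)
theorem bndM10 : Bnd (RM [0] []) 7 168 :=
  Bnd.tc bnd21 (n := 8) (fun g ω => T54.G23M10.enum g ω) (by decide) [0, 2, 4, 6, 7, 8, 9, 10, 11, 12, 13] rfl (icol_ge _ rfl)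
    [[6],
  [12]]
    [([6, 7], []),
  ([7, 6], []),
  ([8, 9], []),
  ([9, 8], []),
  ([10, 11], []),
  ([11, 10], []),
  ([12, 13], []),
  ([13, 12], [])]
    (by decide +kernel)
theorem bndM11 : Bnd (RM [0] [2]) 7 168 :=
  Bnd.tc bnd21 (n := 8) (fun g ω => T54.G23M11.enum g ω) (by decide) [0, 2, 4, 6, 7, 8, 9, 10, 11, 12, 13] rfl (icol_ge _ rfl)
    [[6],
  [12]]
    [([6, 7], []),
  ([7, 6], []),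
  ([8, 9], []),
  ([9, 8], []),
  ([10, 11], []),
  ([11, 10], []),
  ([12, 13], []),
  ([13, 12], [])]
    (by decide +kernel)
theorem bndP : Bnd RP 6 192 :=
  Bnd.tc (bnd_zero []) (n := 192) (fun g ω => T54.G23P.enum g ω) (by decide) [0, 2, 4, 6, 7, 8, 10, 11] rfl (icol_ge _ rfl)
    []
    [([6, 7], []),
  ([7, 6], []),
  ([10, 11], []),
  ([11, 10], []),
  ([8, 0, 8, 0], [([], 23), ([8, 0], 21)]),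
  ([8, 2, 8, 4], [([], 25), ([8, 2], 21)]),
  ([8, 4, 8, 2], [([3, 9], 25), ([], 21)]),
  ([8, 6, 8, 6], [([], 29), ([8, 6], 21)])]
    (by decide +kernel)
theorem bndH : Bnd RH 7 576 :=
  Bnd.tc bndP (n := 3) (fun g ω => T54.G23H.enum g ω) (by decide) [0, 2, 4, 6, 7, 8, 10, 11, 12, 13] rfl (icol_ge _ rfl)
    [[0],
  [2],
  [4],
  [6],
  [8],
  [10]]
    [([6, 7], []),
  ([7, 6], []),
  ([10, 11], []),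
  ([11, 10], []),
  ([12, 13], []),
  ([13, 12], []),
  ([8, 0, 8, 0], [([], 23), ([8, 0], 21)]),
  ([8, 2, 8, 4], [([], 25), ([8, 2], 21)]),
  ([8, 4, 8, 2], [([3, 9], 25), ([], 21)]),
  ([8, 6, 8, 6], [([], 29), ([8, 6], 21)])]
    (by decide +kernel)
theorem bndG : Bnd (RK W0) 8 4245696 :=
  Bnd.tc bndM01 (n := 3159) (fun g ω => T54.G23G.enum g ω) (by decide) [0, 2, 4, 6, 7, 8, 10, 11, 12, 13, 14, 15] rfl (icol_ge _ rfl)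
    [[0],
  [2],
  [4],
  [6],
  [8],
  [10],
  [14]]
    [([6, 7], []),
  ([7, 6], []),
  ([10, 11], []),
  ([11, 10], []),
  ([12, 13], []),
  ([13, 12], []),
  ([14, 15], []),
  ([15, 14], []),
  ([8, 0, 8, 0], [([], 21), ([8, 0], 41)]),
  ([8, 2, 8, 4], [([], 23), ([8, 2], 41)]),
  ([8, 4, 8, 2], [([3, 9], 23), ([], 41)]),
  ([8, 6, 8, 6], [([], 27), ([8, 6], 41)]),
  ([7, 14, 6, 12, 15, 6, 2, 4, 10, 13, 6, 11, 4, 2, 7, 14, 13, 7, 15, 6, 12, 7, 14, 6, 12, 15, 6, 2, 4, 10, 7, 12, 11, 4, 2, 7, 14, 13, 7, 15, 6, 13], [([], 67), ([7, 14, 6, 12, 15, 6, 2, 4, 10, 13, 6, 11, 4, 2, 7, 14, 13, 7, 15, 6, 12, 7, 14, 6, 12, 15, 6, 3, 5, 10, 7, 12, 11, 5], 3), ([7, 14, 6, 12, 15, 6, 2, 4, 10, 13, 6, 11, 4, 2, 7, 14, 13, 7, 15, 6, 12, 7, 14, 6, 12, 15, 6, 3, 5, 10, 7, 12, 11], 5), ([7, 14, 6, 12, 15, 6, 2,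 4, 10, 13, 6, 11, 4, 2, 7, 14, 13, 7, 15, 6, 12, 7, 14, 6, 12, 15, 6, 3], 5), ([7, 14, 6, 12, 15, 6, 2, 4, 10, 13, 6, 11, 4, 2, 7, 14, 13, 7, 15, 6, 12, 7, 14, 6, 12, 15, 6], 3)]),
  ([7, 14, 6, 12, 15, 6, 2, 4, 10, 13, 6, 11, 4, 2, 7, 14, 13, 7, 15, 6, 14, 6, 12, 15, 6, 2, 4, 10, 7, 12, 11, 4, 2, 7, 14, 13, 7, 15], [([], 69), ([7, 14, 6, 12, 15, 6, 2, 4, 10, 13, 6, 11, 4, 2, 7, 14, 13, 7, 15, 6, 14, 6, 12, 15, 6, 3, 5, 10, 7, 12, 11, 5], 3), ([7, 14, 6, 12, 15, 6, 2, 4, 10, 13, 6, 11, 4, 2, 7, 14, 13, 7, 15, 6, 14, 6, 12, 15, 6, 3, 5, 10, 7, 12, 11], 5), ([7, 14, 6, 12, 15, 6, 2, 4, 10, 13, 6, 11, 4, 2, 7, 14, 13, 7, 15, 6, 14, 6, 12, 15, 6, 3], 5), ([7, 14, 6, 12, 15, 6, 2, 4, 10, 13, 6, 11, 4, 2, 7, 14, 13, 7, 15, 6, 14, 6, 12, 15, 6], 3)])]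
    (by decide +kernel)
theorem bndC0 : Bnd (RK [12]) 8 576 :=
  Bnd.tc bndH (n := 1) (fun g ω => T54.G23C0.enum g ω) (by decide) [0, 2, 4, 6, 7, 8, 10, 11, 12, 13, 14, 15] rfl (icol_ge _ rfl)
    [[0],
  [2],
  [4],
  [6],
  [8],
  [10],
  [12]]
    [([6, 7], []),
  ([7, 6], []),
  ([10, 11], []),
  ([11, 10], []),
  ([12, 13], []),
  ([13, 12], []),
  ([14, 15], []),
  ([15, 14], []),
  ([8, 0, 8, 0], [([], 21), ([8, 0], 41)]),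
  ([8, 2, 8, 4], [([], 23), ([8, 2], 41)]),
  ([8, 4, 8, 2], [([3, 9], 23), ([], 41)]),
  ([8, 6, 8, 6], [([], 27), ([8, 6], 41)]),
  ([7, 14, 6, 12, 15, 6, 12, 7, 14, 13, 7, 15, 6, 14, 6, 12, 15, 6, 13, 7, 14, 13, 7, 15], [([], 69)])]
    (by decide +kernel)
theorem bndC1 : Bnd (RK [10, 12, 11]) 8 576 :=
  Bnd.tc bndH (n := 1) (fun g ω => T54.G23C1.enum g ω) (by decide) [0, 2, 4, 6, 7, 8, 10, 11, 12, 13, 14, 15] rfl (icol_ge _ rfl)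
    [[0],
  [2],
  [4],
  [6],
  [8],
  [10],
  [12]]
    [([6, 7], []),
  ([7, 6], []),
  ([10, 11], []),
  ([11, 10], []),
  ([12, 13], []),
  ([13, 12], []),
  ([14, 15], []),
  ([15, 14], []),
  ([8, 0, 8, 0], [([], 21), ([8, 0], 41)]),
  ([8, 2, 8, 4], [([], 23), ([8, 2], 41)]),
  ([8, 4, 8, 2], [([3, 9], 23), ([], 41)]),
  ([8, 6, 8, 6], [([], 27), ([8, 6], 41)]),
  ([7, 14, 6, 12, 15, 6, 10, 12, 11, 7, 14, 13, 7, 15, 6, 14, 6, 12, 15, 6, 10, 13, 11, 7, 14, 13, 7, 15], [([], 69)])]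
    (by decide +kernel)
theorem bndC2 : Bnd (RK [13, 6]) 8 576 :=
  Bnd.tc bndH (n := 1) (fun g ω => T54.G23C2.enum g ω) (by decide) [0, 2, 4, 6, 7, 8, 10, 11, 12, 13, 14, 15] rfl (icol_ge _ rfl)
    [[0],
  [2],
  [4],
  [6],
  [8],
  [10],
  [12]]
    [([6, 7], []),
  ([7, 6], []),
  ([10, 11], []),
  ([11, 10], []),
  ([12, 13], []),
  ([13, 12], []),
  ([14, 15], []),
  ([15, 14], []),
  ([8, 0, 8, 0], [([], 21), ([8, 0], 41)]),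
  ([8, 2, 8, 4], [([], 23), ([8, 2], 41)]),
  ([8, 4, 8, 2], [([3, 9], 23), ([], 41)]),
  ([8, 6, 8, 6], [([], 27), ([8, 6], 41)]),
  ([7, 14, 6, 12, 15, 6, 13, 14, 13, 7, 15, 6, 12, 7, 14, 6, 12, 15, 12, 7, 14, 13, 7, 15, 6, 13], [([], 67)]),
  ([7, 14, 6, 12, 15, 6, 13, 14, 13, 7, 15, 6, 14, 6, 12, 15, 12, 7, 14, 13, 7, 15], [([], 69)])]
    (by decide +kernel)
theorem bndC3 : Bnd (RK [12, 13, 6]) 8 576 :=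
  Bnd.tc bndH (n := 1) (fun g ω => T54.G23C3.enum g ω) (by decide) [0, 2, 4, 6, 7, 8, 10, 11, 12, 13, 14, 15] rfl (icol_ge _ rfl)
    [[0],
  [2],
  [4],
  [6],
  [8],
  [10],
  [12]]
    [([6, 7], []),
  ([7, 6], []),
  ([10, 11], []),
  ([11, 10], []),
  ([12, 13], []),
  ([13, 12], []),
  ([14, 15], []),
  ([15, 14], []),
  ([8, 0, 8, 0], [([], 21), ([8, 0], 41)]),
  ([8, 2, 8, 4], [([], 23), ([8, 2], 41)]),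
  ([8, 4, 8, 2], [([3, 9], 23), ([], 41)]),
  ([8, 6, 8, 6], [([], 27), ([8, 6], 41)]),
  ([7, 14, 6, 12, 15, 6, 14, 13, 7, 15, 6, 12, 7, 14, 6, 12, 15, 7, 14, 13, 7, 15, 6, 13], [([], 67)]),
  ([7, 14, 6, 12, 15, 6, 14, 13, 7, 15, 6, 14, 6, 12, 15, 7, 14, 13, 7, 15], [([], 69)])]
    (by decide +kernel)
theorem bndC4 : Bnd (RK [12, 7, 12]) 8 576 :=
  Bnd.tc bndH (n := 1) (fun g ω => T54.G23C4.enum g ω) (by decide) [0, 2, 4, 6, 7, 8, 10, 11, 12, 13, 14, 15] rfl (icol_ge _ rfl)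
    [[0],
  [2],
  [4],
  [6],
  [8],
  [10],
  [12]]
    [([6, 7], []),
  ([7, 6], []),
  ([10, 11], []),
  ([11, 10], []),
  ([12, 13], []),
  ([13, 12], []),
  ([14, 15], []),
  ([15, 14], []),
  ([8, 0, 8, 0], [([], 21), ([8, 0], 41)]),
  ([8, 2, 8, 4], [([], 23), ([8, 2], 41)]),
  ([8, 4, 8, 2], [([3, 9], 23), ([], 41)]),
  ([8, 6, 8, 6], [([], 27), ([8, 6], 41)]),
  ([7, 14, 6, 12, 15, 6, 12, 7, 12, 7, 14, 13, 7, 15, 6, 14, 6, 12, 15, 6, 13, 6, 13, 7, 14, 13, 7, 15], [([], 69)])]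
    (by decide +kernel)
theorem bndC5 : Bnd (RK [12, 2, 4, 10, 13, 6, 11, 4, 2]) 8 576 :=
  Bnd.tc bndH (n := 1) (fun g ω => T54.G23C5.enum g ω) (by decide) [0, 2, 4, 6, 7, 8, 10, 11, 12, 13, 14, 15] rfl (icol_ge _ rfl)
    [[0],
  [2],
  [4],
  [6],
  [8],
  [10],
  [12]]
    [([6, 7], []),
  ([7, 6], []),
  ([10, 11], []),
  ([11, 10], []),
  ([12, 13], []),
  ([13, 12], []),
  ([14, 15], []),
  ([15, 14], []),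
  ([8, 0, 8, 0], [([], 21), ([8, 0], 41)]),
  ([8, 2, 8, 4], [([], 23), ([8, 2], 41)]),
  ([8, 4, 8, 2], [([3, 9], 23), ([], 41)]),
  ([8, 6, 8, 6], [([], 27), ([8, 6], 41)]),
  ([7, 14, 6, 12, 15, 6, 12, 2, 4, 10, 13, 6, 11, 4, 2, 7, 14, 13, 7, 15, 6, 12, 7, 14, 6, 12, 15, 6, 2, 4, 10, 7, 12, 11, 4, 2, 13, 7, 14, 13, 7, 15, 6, 13], [([], 67), ([7, 14, 6, 12, 15, 6, 12, 2, 4, 10, 13, 6, 11, 4, 2, 7, 14, 13, 7, 15, 6, 12, 7, 14, 6, 12, 15, 6, 3, 5, 10, 7, 12, 11, 5], 3), ([7, 14, 6, 12, 15, 6, 12, 2, 4, 10, 13, 6, 11, 4, 2, 7, 14, 13, 7, 15, 6, 12, 7, 14, 6, 12, 15, 6, 3, 5, 10, 7, 12, 11], 5), ([7, 14, 6, 12, 15, 6, 12, 2, 4, 10, 13, 6, 11, 4, 2, 7, 14, 13, 7, 15, 6, 12, 7, 14, 6, 12, 15, 6, 3], 5), ([7, 14, 6, 12, 15, 6, 12, 2, 4, 10, 13, 6, 11, 4, 2, 7, 14, 13, 7, 15, 6, 12, 7, 14, 6, 12, 15, 6],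 3)]),
  ([7, 14, 6, 12, 15, 6, 12, 2, 4, 10, 13, 6, 11, 4, 2, 7, 14, 13, 7, 15, 6, 14, 6, 12, 15, 6, 2, 4, 10, 7, 12, 11, 4, 2, 13, 7, 14, 13, 7, 15], [([], 69), ([7, 14, 6, 12, 15, 6, 12, 2, 4, 10, 13, 6, 11, 4, 2, 7, 14, 13, 7, 15, 6, 14, 6, 12, 15, 6, 3, 5, 10, 7, 12, 11, 5], 3), ([7, 14, 6, 12, 15, 6, 12, 2, 4, 10, 13, 6, 11, 4, 2, 7, 14, 13, 7, 15, 6, 14, 6, 12, 15, 6, 3, 5, 10, 7, 12, 11], 5), ([7, 14, 6, 12, 15, 6, 12, 2, 4, 10, 13, 6, 11, 4, 2, 7, 14, 13, 7, 15, 6, 14, 6, 12, 15, 6, 3], 5), ([7, 14, 6, 12, 15, 6, 12, 2, 4, 10, 13, 6, 11, 4, 2, 7, 14, 13, 7, 15, 6, 14, 6, 12, 15, 6], 3)])]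
    (by decide +kernel)
theorem bndC6 : Bnd (RK [12, 2, 4, 10, 7, 12, 11, 4, 2]) 8 576 :=
  Bnd.tc bndH (n := 1) (fun g ω => T54.G23C6.enum g ω) (by decide) [0, 2, 4, 6, 7, 8, 10, 11, 12, 13, 14, 15] rfl (icol_ge _ rfl)
    [[0],
  [2],
  [4],
  [6],
  [8],
  [10],
  [12]]
    [([6, 7], []),
  ([7, 6], []),
  ([10, 11], []),
  ([11, 10], []),
  ([12, 13], []),
  ([13, 12], []),
  ([14, 15], []),
  ([15, 14], []),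
  ([8, 0, 8, 0], [([], 21), ([8, 0], 41)]),
  ([8, 2, 8, 4], [([], 23), ([8, 2], 41)]),
  ([8, 4, 8, 2], [([3, 9], 23), ([], 41)]),
  ([8, 6, 8, 6], [([], 27), ([8, 6], 41)]),
  ([7, 14, 6, 12, 15, 6, 12, 2, 4, 10, 7, 12, 11, 4, 2, 7, 14, 13, 7, 15, 6, 12, 7, 14, 6, 12, 15, 6, 2, 4, 10, 13, 6, 11, 4, 2, 13, 7, 14, 13, 7, 15, 6, 13], [([], 67), ([7, 14, 6, 12, 15, 6, 12, 2, 4, 10, 7, 12, 11, 4, 2, 7, 14, 13, 7, 15, 6, 12, 7, 14, 6, 12, 15, 6, 3, 5, 10, 13, 6, 11, 5], 3), ([7, 14, 6, 12, 15, 6, 12, 2, 4, 10, 7, 12, 11, 4, 2, 7, 14, 13, 7, 15, 6, 12, 7, 14, 6, 12, 15, 6, 3, 5, 10, 13, 6, 11], 5), ([7, 14, 6, 12, 15, 6, 12, 2, 4, 10, 7, 12, 11, 4, 2, 7, 14, 13, 7, 15, 6, 12, 7, 14, 6, 12, 15, 6, 3], 5), ([7, 14, 6, 12, 15, 6, 12, 2, 4, 10, 7, 12, 11, 4, 2, 7, 14, 13, 7, 15, 6, 12, 7, 14, 6, 12, 15, 6],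 3)]),
  ([7, 14, 6, 12, 15, 6, 12, 2, 4, 10, 7, 12, 11, 4, 2, 7, 14, 13, 7, 15, 6, 14, 6, 12, 15, 6, 2, 4, 10, 13, 6, 11, 4, 2, 13, 7, 14, 13, 7, 15], [([], 69), ([7, 14, 6, 12, 15, 6, 12, 2, 4, 10, 7, 12, 11, 4, 2, 7, 14, 13, 7, 15, 6, 14, 6, 12, 15, 6, 3, 5, 10, 13, 6, 11, 5], 3), ([7, 14, 6, 12, 15, 6, 12, 2, 4, 10, 7, 12, 11, 4, 2, 7, 14, 13, 7, 15, 6, 14, 6, 12, 15, 6, 3, 5, 10, 13, 6, 11], 5), ([7, 14, 6, 12, 15, 6, 12, 2, 4, 10, 7, 12, 11, 4, 2, 7, 14, 13, 7, 15, 6, 14, 6, 12, 15, 6, 3], 5), ([7, 14, 6, 12, 15, 6, 12, 2, 4, 10, 7, 12, 11, 4, 2, 7, 14, 13, 7, 15, 6, 14, 6, 12, 15, 6], 3)])]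
    (by decide +kernel)
theorem bndC7 : Bnd (RK [10, 12, 11, 13, 6]) 8 576 :=
  Bnd.tc bndH (n := 1) (fun g ω => T54.G23C7.enum g ω) (by decide) [0, 2, 4, 6, 7, 8, 10, 11, 12, 13, 14, 15] rfl (icol_ge _ rfl)
    [[0],
  [2],
  [4],
  [6],
  [8],
  [10],
  [12]]
    [([6, 7], []),
  ([7, 6], []),
  ([10, 11], []),
  ([11, 10], []),
  ([12, 13], []),
  ([13, 12], []),
  ([14, 15], []),
  ([15, 14], []),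
  ([8, 0, 8, 0], [([], 21), ([8, 0], 41)]),
  ([8, 2, 8, 4], [([], 23), ([8, 2], 41)]),
  ([8, 4, 8, 2], [([3, 9], 23), ([], 41)]),
  ([8, 6, 8, 6], [([], 27), ([8, 6], 41)]),
  ([7, 14, 6, 12, 15, 6, 10, 12, 11, 13, 14, 13, 7, 15, 6, 12, 7, 14, 6, 12, 15, 12, 10, 13, 11, 7, 14, 13, 7, 15, 6, 13], [([], 67)]),
  ([7, 14, 6, 12, 15, 6, 10, 12, 11, 13, 14, 13, 7, 15, 6, 14, 6, 12, 15, 12, 10, 13, 11, 7, 14, 13, 7, 15], [([], 69)])]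
    (by decide +kernel)
theorem bndC8 : Bnd (RK [10, 12, 11, 7, 12]) 8 576 :=
  Bnd.tc bndH (n := 1) (fun g ω => T54.G23C8.enum g ω) (by decide) [0, 2, 4, 6, 7, 8, 10, 11, 12, 13, 14, 15] rfl (icol_ge _ rfl)
    [[0],
  [2],
  [4],
  [6],
  [8],
  [10],
  [12]]
    [([6, 7], []),
  ([7, 6], []),
  ([10, 11], []),
  ([11, 10], []),
  ([12, 13], []),
  ([13, 12], []),
  ([14, 15], []),
  ([15, 14], []),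
  ([8, 0, 8, 0], [([], 21), ([8, 0], 41)]),
  ([8, 2, 8, 4], [([], 23), ([8, 2], 41)]),
  ([8, 4, 8, 2], [([3, 9], 23), ([], 41)]),
  ([8, 6, 8, 6], [([], 27), ([8, 6], 41)]),
  ([7, 14, 6, 12, 15, 6, 10, 12, 11, 7, 12, 7, 14, 13, 7, 15, 6, 14, 6, 12, 15, 6, 13, 6, 10, 13, 11, 7, 14, 13, 7, 15], [([], 69)])]
    (by decide +kernel)
theorem bndC9 : Bnd (RK [10, 12, 11, 2, 4, 10, 13, 6, 11, 4, 2]) 8 576 :=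
  Bnd.tc bndH (n := 1) (fun g ω => T54.G23C9.enum g ω) (by decide) [0, 2, 4, 6, 7, 8, 10, 11, 12, 13, 14, 15] rfl (icol_ge _ rfl)
    [[0],
  [2],
  [4],
  [6],
  [8],
  [10],
  [12]]
    [([6, 7], []),
  ([7, 6], []),
  ([10, 11], []),
  ([11, 10], []),
  ([12, 13], []),
  ([13, 12], []),
  ([14, 15], []),
  ([15, 14], []),
  ([8, 0, 8, 0], [([], 21), ([8, 0], 41)]),
  ([8, 2, 8, 4], [([], 23), ([8, 2], 41)]),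
  ([8, 4, 8, 2], [([3, 9], 23), ([], 41)]),
  ([8, 6, 8, 6], [([], 27), ([8, 6], 41)]),
  ([7, 14, 6, 12, 15, 6, 10, 12, 11, 2, 4, 10, 13, 6, 11, 4, 2, 7, 14, 13, 7, 15, 6, 12, 7, 14, 6, 12, 15, 6, 2, 4, 10, 7, 12, 11, 4, 2, 10, 13, 11, 7, 14, 13, 7, 15, 6, 13], [([], 67), ([7, 14, 6, 12, 15, 6, 10, 12, 11, 2, 4, 10, 13, 6, 11, 4, 2, 7, 14, 13, 7, 15, 6, 12, 7, 14, 6, 12, 15, 6, 3, 5, 10, 7, 12, 11, 5], 3), ([7, 14, 6, 12, 15, 6, 10, 12, 11, 2, 4, 10, 13, 6, 11, 4, 2, 7, 14, 13, 7, 15, 6, 12, 7, 14, 6, 12, 15, 6, 3, 5, 10, 7, 12, 11], 5), ([7, 14, 6, 12, 15, 6, 10, 12, 11, 2, 4, 10, 13, 6, 11, 4, 2, 7, 14, 13, 7, 15, 6, 12, 7, 14, 6, 12, 15, 6, 3], 5), ([7, 14, 6, 12, 15, 6, 10, 12, 11, 2, 4, 10, 13, 6, 11, 4, 2, 7, 14, 13, 7, 15, 6, 12, 7, 14, 6, 12, 15, 6], 3)]),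
  ([7, 14, 6, 12, 15, 6, 10, 12, 11, 2, 4, 10, 13, 6, 11, 4, 2, 7, 14, 13, 7, 15, 6, 14, 6, 12, 15, 6, 2, 4, 10, 7, 12, 11, 4, 2, 10, 13, 11, 7, 14, 13, 7, 15], [([], 69), ([7, 14, 6, 12, 15, 6, 10, 12, 11, 2, 4, 10, 13, 6, 11, 4, 2, 7, 14, 13, 7, 15, 6, 14, 6, 12, 15, 6, 3, 5, 10, 7, 12, 11, 5], 3), ([7, 14, 6, 12, 15, 6, 10, 12, 11, 2, 4, 10, 13, 6, 11, 4, 2, 7, 14, 13, 7, 15, 6, 14, 6, 12, 15, 6, 3, 5, 10, 7, 12, 11], 5), ([7, 14, 6, 12, 15, 6, 10, 12, 11, 2, 4, 10, 13, 6, 11, 4, 2, 7, 14, 13, 7, 15, 6, 14, 6, 12, 15, 6, 3], 5), ([7, 14, 6, 12, 15, 6, 10, 12, 11, 2, 4, 10, 13, 6, 11, 4, 2, 7, 14, 13, 7, 15, 6, 14, 6, 12, 15, 6], 3)])]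
    (by decide +kernel)
theorem bndC10 : Bnd (RK [10, 12, 11, 2, 4, 10, 7, 12, 11, 4, 2]) 8 576 :=
  Bnd.tc bndH (n := 1) (fun g ω => T54.G23C10.enum g ω) (by decide) [0, 2, 4, 6, 7, 8, 10, 11, 12, 13, 14, 15] rfl (icol_ge _ rfl)
    [[0],
  [2],
  [4],
  [6],
  [8],
  [10],
  [12]]
    [([6, 7], []),
  ([7, 6], []),
  ([10, 11], []),
  ([11, 10], []),
  ([12, 13], []),
  ([13, 12], []),
  ([14, 15], []),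
  ([15, 14], []),
  ([8, 0, 8, 0], [([], 21), ([8, 0], 41)]),
  ([8, 2, 8, 4], [([], 23), ([8, 2], 41)]),
  ([8, 4, 8, 2], [([3, 9], 23), ([], 41)]),
  ([8, 6, 8, 6], [([], 27), ([8, 6], 41)]),
  ([7, 14, 6, 12, 15, 6, 10, 12, 11, 2, 4, 10, 7, 12, 11, 4, 2, 7, 14, 13, 7, 15, 6, 12, 7, 14, 6, 12, 15, 6, 2, 4, 10, 13, 6, 11, 4, 2, 10, 13, 11, 7, 14, 13, 7, 15, 6, 13], [([], 67), ([7, 14, 6, 12, 15, 6, 10, 12, 11, 2, 4, 10, 7, 12, 11, 4, 2, 7, 14, 13, 7, 15, 6, 12, 7, 14, 6, 12, 15, 6, 3, 5, 10, 13, 6, 11, 5], 3), ([7, 14, 6, 12, 15, 6, 10, 12, 11, 2, 4, 10, 7, 12, 11, 4, 2, 7, 14, 13, 7, 15, 6, 12, 7, 14, 6, 12, 15, 6, 3, 5, 10, 13, 6, 11], 5), ([7, 14, 6, 12, 15, 6, 10, 12, 11, 2, 4, 10, 7, 12, 11, 4, 2, 7, 14, 13, 7, 15, 6, 12, 7, 14, 6, 12, 15, 6, 3], 5), ([7, 14, 6, 12, 15, 6, 10, 12, 11, 2, 4,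 10, 7, 12, 11, 4, 2, 7, 14, 13, 7, 15, 6, 12, 7, 14, 6, 12, 15, 6], 3)]),
  ([7, 14, 6, 12, 15, 6, 10, 12, 11, 2, 4, 10, 7, 12, 11, 4, 2, 7, 14, 13, 7, 15, 6, 14, 6, 12, 15, 6, 2, 4, 10, 13, 6, 11, 4, 2, 10, 13, 11, 7, 14, 13, 7, 15], [([], 69), ([7, 14, 6, 12, 15, 6, 10, 12, 11, 2, 4, 10, 7, 12, 11, 4, 2, 7, 14, 13, 7, 15, 6, 14, 6, 12, 15, 6, 3, 5, 10, 13, 6, 11, 5], 3), ([7, 14, 6, 12, 15, 6, 10, 12, 11, 2, 4, 10, 7, 12, 11, 4, 2, 7, 14, 13, 7, 15, 6, 14, 6, 12, 15, 6, 3, 5, 10, 13, 6, 11], 5), ([7, 14, 6, 12, 15, 6, 10, 12, 11, 2, 4, 10, 7, 12, 11, 4, 2, 7, 14, 13, 7, 15, 6, 14, 6, 12, 15, 6, 3], 5), ([7, 14, 6, 12, 15, 6, 10, 12, 11, 2, 4, 10, 7, 12, 11, 4, 2, 7, 14, 13, 7, 15, 6, 14, 6, 12, 15, 6], 3)])]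
    (by decide +kernel)
theorem bndC : ∀ w ∈ WB, Bnd (RK w) 8 576 := by
  simp only [WB, List.forall_mem_cons]
  exact ⟨bndC0, bndC1, bndC2, bndC3, bndC4, bndC5, bndC6, bndC7, bndC8, bndC9, bndC10, by simp⟩
theorem eqns_pres : True := by
  have := @R21.eq_1
  have := @RB.eq_1
  have := @RM.eq_1
  have := @Rq.eq_1
  have := @Rd.eq_1
  have := @RP.eq_1
  have := @RH.eq_1
  have := @E7.eq_1
  have := @RA.eq_1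
  have := @RHO.eq_1
  have := @cmW.eq_1
  have := @RK.eq_1
  have := @W0.eq_1
  have := @WB.eq_1
  trivial
end H63.G23
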